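import Cfsg.Agent.S3278
import Cfsg.Agent.Invol.ThompsonTransfer
import Cfsg.Agent.Char.Burnside
import Cfsg.Prelude.Def_Transfer

/-!
A finite group with an involution whose centralizer is elementary abelian of order four, without
normal 2-complement and without normal elementary abelian subgroups of order 2 or 4, is `A₅`.
-/

set_option autoImplicit false
set_option linter.unusedSectionVars false
set_option linter.style.haveILetI false

namespace CfsgLib.CentFour

open Subgroup
open scoped commutatorElement

universe u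

/-- Pigeonhole for conjugates. -/
theorem card_le_mul_centralizer {K : Type*} [Group K] [Finite K] (M : Subgroup K) (x : K)
    (S : Finset K) (hS : ∀ m ∈ M, m * x * m⁻¹ ∈ S) :
    Nat.card M ≤ Nat.card (centralizer ({x} : Set K)) * S.card := by
  classical
  haveI := Fintype.ofFinite M
  haveI := Fintype.ofFinite (centralizer ({x} : Set K))
  rw [Nat.card_eq_fintype_card, Nat.card_eq_fintype_card]
  refine Finset.card_le_mul_card_image_of_maps_to (f := fun m : M => (m : K) * x * (m : K)⁻¹)
    (s := Finset.univ) (fun m _ => hS m m.2) _ fun b hb => ?_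
  rcases Finset.eq_empty_or_nonempty
    (Finset.filter (fun m : M => (m : K) * x * (m : K)⁻¹ = b) Finset.univ)
    with he | ⟨m₀, hm₀⟩
  · rw [he]; simp
  · have h0 := (Finset.mem_filter.1 hm₀).2
    refine Finset.card_le_card_of_injOn (fun m : M =>
      if h : (m₀ : K)⁻¹ * m ∈ centralizer ({x} : Set K) then
        (⟨_, h⟩ : centralizer ({x} : Set K)) else 1) (fun _ _ => Finset.mem_univ _) ?_
    intro m hm m' hm' he
    have hc : ∀ n ∈ (Finset.filter (fun m : M => (m : K) * x * (m : K)⁻¹ = b) Finset.univ),
        (m₀ : K)⁻¹ * n ∈ centralizer ({x} : Set K) := by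
      intro n hn
      have h1 := (Finset.mem_filter.1 hn).2
      rw [mem_centralizer_singleton_iff]
      calc (m₀ : K)⁻¹ * n * x = (m₀ : K)⁻¹ * (n * x * (n : K)⁻¹) * n := by group
        _ = (m₀ : K)⁻¹ * (m₀ * x * (m₀ : K)⁻¹) * n := by rw [h1, h0]
        _ = x * ((m₀ : K)⁻¹ * n) := by group
    simp only [Finset.mem_coe] at hm hm'
    simp only [dif_pos (hc m hm), dif_pos (hc m' hm'), Subtype.ext_iff] at he
    exact Subtype.ext (mul_left_cancel he)

/-- Perfect groups have no proper subgroups of index at most four. -/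
theorem eq_top_of_index_le_four {K : Type*} [Group K] [Finite K] (hperf : commutator K = ⊤)
    (L : Subgroup K) (h : L.index ≤ 4) : L = ⊤ := by
  classical
  haveI : Group.IsSolvable (Equiv.Perm (K ⧸ L)) := by
    obtain ⟨a, b, hab⟩ : ∃ a b, Nat.card (Equiv.Perm (K ⧸ L)) = 2 ^ a * 3 ^ b := by
      rw [Nat.card_perm]
      change ∃ a b, L.index.factorial = 2 ^ a * 3 ^ b
      have h0 : L.index ≠ 0 := index_ne_zero_of_finite
      rcases (show L.index = 1 ∨ L.index = 2 ∨ L.index = 3 ∨ L.index = 4 by omega) with
        e | e | e | e <;> rw [e]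
      · exact ⟨0, 0, rfl⟩
      · exact ⟨1, 0, rfl⟩
      · exact ⟨1, 1, rfl⟩
      · exact ⟨3, 1, rfl⟩
    exact CfsgLib.Char.isSolvable_of_card_eq 2 3 a b Nat.prime_two Nat.prime_three hab
  let φ := MulAction.toPermHom K (K ⧸ L)
  have hall : ∀ n, derivedSeries K n = ⊤ := by
    intro n
    induction n with
    | zero => rfl
    | succ n ih => rw [derivedSeries_succ, ih]; exact hperf
  obtain ⟨n, hn⟩ := (Group.isSolvable_def _).1 ‹Group.IsSolvable (Equiv.Perm (K ⧸ L))›
  rw [eq_top_iff]
  intro k _
  have hk : φ k ∈ derivedSeries (Equiv.Perm (K ⧸ L)) n :=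
    map_derivedSeries_le_derivedSeries φ n ⟨k, by rw [hall]; exact mem_top k, rfl⟩
  rw [hn, mem_bot] at hk
  have := congrArg (fun σ : Equiv.Perm (K ⧸ L) => σ ((1 : K) : K ⧸ L)) hk
  simpa [φ, QuotientGroup.eq] using this

/-- An involutory automorphism of a perfect centreless group fixes at least three elements. -/
theorem two_lt_card_fixed {K : Type*} [Group K] [Finite K] [Nontrivial K]
    (hperf : commutator K = ⊤) (hZ : center K = ⊥) (σ : K ≃* K) (hσ : ∀ k, σ (σ k) = k) :
    2 < Nat.card {k : K // σ k = k} := by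
  classical
  by_contra hle
  push Not at hle
  haveI := Fintype.ofFinite K
  set h := Fintype.card K with hh
  have hidx : ∀ g : K, g ≠ 1 → 5 ≤ (centralizer ({g} : Set K)).index := by
    intro g hg
    by_contra hlt
    have htop := eq_top_of_index_le_four hperf _ (by omega : (centralizer ({g} : Set K)).index ≤ 4)
    refine hg (mem_bot.1 (hZ ▸ mem_center_iff.2 fun k => ?_))
    exact mem_centralizer_singleton_iff.1 (htop.symm ▸ mem_top k)
  have hcg : ∀ g : K, g ≠ 1 → 5 * Nat.card (centralizer ({g} : Set K)) ≤ h := by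
    intro g hg
    have h1 := (centralizer ({g} : Set K)).card_mul_index
    have h2 := Nat.mul_le_mul_left (Nat.card (centralizer ({g} : Set K))) (hidx g hg)
    rw [hh, ← Nat.card_eq_fintype_card]
    omega
  have h10 : 10 ≤ h := by
    obtain ⟨g, hg⟩ := exists_ne (1 : K)
    have h1 := hcg g hg
    haveI : Nontrivial (centralizer ({g} : Set K)) :=
      ⟨⟨⟨g, mem_centralizer_singleton_iff.2 rfl⟩, 1, fun e => hg (congrArg Subtype.val e)⟩⟩
    have h2 : 1 < Nat.card (centralizer ({g} : Set K)) := Finite.one_lt_card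
    omega
  set I := (Finset.univ : Finset K).image (fun n => n⁻¹ * σ n) with hI
  have hIle : I.card ≤ h := Finset.card_le_univ I
  have hI2 : h ≤ 2 * I.card := by
    refine Finset.card_le_mul_card_image (Finset.univ : Finset K) 2 fun b hb => ?_
    obtain ⟨n₀, -, hn₀⟩ := Finset.mem_image.1 hb
    refine le_trans ?_ hle
    rw [Nat.card_eq_fintype_card]
    refine Finset.card_le_card_of_injOn (fun n : K =>
      if hf : σ (n * n₀⁻¹) = n * n₀⁻¹ then (⟨_, hf⟩ : {k : K // σ k = k}) else ⟨1, map_one σ⟩)
      (fun _ _ => Finset.mem_univ _) ?_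
    intro m hm m' hm' he
    have hf : ∀ n ∈ {n ∈ (Finset.univ : Finset K) | n⁻¹ * σ n = b}, σ (n * n₀⁻¹) = n * n₀⁻¹ := by
      intro n hn
      have h1 := (Finset.mem_filter.1 hn).2
      rw [← hn₀, inv_mul_eq_iff_eq_mul] at h1
      rw [map_mul, map_inv, h1]
      group
    simp only [Finset.mem_coe] at hm hm'
    simp only [dif_pos (hf m hm), dif_pos (hf m' hm'), Subtype.ext_iff] at he
    exact mul_right_cancel he
  have hinv : ∀ a ∈ I, σ a = a⁻¹ := by
    intro a ha
    obtain ⟨n, -, rfl⟩ := Finset.mem_image.1 ha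
    rw [map_mul, map_inv, hσ, mul_inv_rev, inv_inv]
  -- count pairs of inverted elements
  let F : K → Finset (K × K) := fun g => {p ∈ I ×ˢ I | p.1 * p.2⁻¹ = g}
  have hsum : I.card * I.card = ∑ g : K, (F g).card := by
    rw [← Finset.card_product]
    exact Finset.card_eq_sum_card_fiberwise (fun p _ => Finset.mem_univ _)
  have hone : (F 1).card ≤ I.card := by
    refine Finset.card_le_card_of_injOn Prod.fst (fun p hp => ?_) ?_
    · exact (Finset.mem_product.1 (Finset.mem_filter.1 hp).1).1
    · intro p hp q hq he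
      have h1 := mul_inv_eq_one.1 (Finset.mem_filter.1 hp).2
      have h2 := mul_inv_eq_one.1 (Finset.mem_filter.1 hq).2
      exact Prod.ext he (by rw [← h1, ← h2]; exact he)
  have hoth : ∀ g ∈ (Finset.univ : Finset K).erase 1, 5 * (F g).card ≤ h := by
    intro g hg
    have hg1 := (Finset.mem_erase.1 hg).1
    refine le_trans (Nat.mul_le_mul_left 5 ?_) (hcg g hg1)
    rcases Finset.eq_empty_or_nonempty (F g) with he | ⟨p₀, hp₀⟩
    · rw [he]; simp
    · haveI := Fintype.ofFinite (centralizer ({g} : Set K))
      rw [Nat.card_eq_fintype_card]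
      have key : ∀ p ∈ F g, p.2 * p₀.2⁻¹ ∈ centralizer ({g} : Set K) ∧ p.1 = g * p.2 := by
        have hh' : ∀ p ∈ F g, p.1 = g * p.2 ∧ σ g = p.2⁻¹ * g⁻¹ * p.2 := by
          intro p hp
          obtain ⟨hpI, hpg⟩ := Finset.mem_filter.1 hp
          obtain ⟨h1, h2⟩ := Finset.mem_product.1 hpI
          have e := mul_inv_eq_iff_eq_mul.1 hpg
          refine ⟨e, ?_⟩
          rw [← hpg, map_mul, map_inv, hinv _ h1, hinv _ h2, e]
          group
        intro p hp
        refine ⟨?_, (hh' p hp).1⟩
        have e1 := (hh' p hp).2.symm.trans (hh' p₀ hp₀).2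
        have e2 : (p.2 * p₀.2⁻¹) * g⁻¹ = g⁻¹ * (p.2 * p₀.2⁻¹) := by
          calc (p.2 * p₀.2⁻¹) * g⁻¹ = p.2 * (p₀.2⁻¹ * g⁻¹ * p₀.2) * p₀.2⁻¹ := by group
            _ = p.2 * (p.2⁻¹ * g⁻¹ * p.2) * p₀.2⁻¹ := by rw [e1]
            _ = g⁻¹ * (p.2 * p₀.2⁻¹) := by group
        rw [mem_centralizer_singleton_iff]
        simpa using (Commute.inv_right (show Commute (p.2 * p₀.2⁻¹) g⁻¹ from e2)).eq
      refine Finset.card_le_card_of_injOn (fun p : K × K =>
        if hf : p.2 * p₀.2⁻¹ ∈ centralizer ({g} : Set K) then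
          (⟨_, hf⟩ : centralizer ({g} : Set K)) else 1) (fun _ _ => Finset.mem_univ _) ?_
      intro p hp q hq he
      simp only [Finset.mem_coe] at hp hq
      simp only [dif_pos (key p hp).1, dif_pos (key q hq).1, Subtype.ext_iff] at he
      have e2 := mul_right_cancel he
      exact Prod.ext (by rw [(key p hp).2, (key q hq).2, e2]) e2
  rw [← Finset.add_sum_erase _ _ (Finset.mem_univ (1 : K))] at hsum
  have hbound : 5 * (I.card * I.card) ≤ 5 * I.card + (h - 1) * h := by
    rw [hsum, mul_add, Finset.mul_sum]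
    refine add_le_add (Nat.mul_le_mul_left 5 hone) ((Finset.sum_le_card_nsmul _ _ h hoth).trans ?_)
    rw [Finset.card_erase_of_mem (Finset.mem_univ _), Finset.card_univ, smul_eq_mul]
  obtain ⟨m, hm⟩ : ∃ m, h = m + 1 := ⟨h - 1, by omega⟩
  rw [hm, Nat.add_sub_cancel] at hbound
  nlinarith [hI2, hIle, h10, hm, Nat.mul_le_mul hI2 hI2]

variable {G : Type u} [Group G] [Finite G]

/-- Dichotomy for minimal normal subgroups. -/
theorem minimal_dichotomy (N : Subgroup G) [N.Normal] (hN : N ≠ ⊥)
    (hmin : ∀ L : Subgroup G, L.Normal → L ≤ N → L ≠ ⊥ → L = N) :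
    (∃ p : ℕ, p.Prime ∧ (∀ a ∈ N, ∀ b ∈ N, a * b = b * a) ∧ ∀ a ∈ N, a ^ p = 1) ∨
      (commutator N = ⊤ ∧ center N = ⊥) := by
  classical
  by_cases hab : ∀ a ∈ N, ∀ b ∈ N, a * b = b * a
  · left
    have hc : Nat.card N ≠ 1 := fun h => hN (eq_bot_of_card_eq _ h)
    obtain ⟨p, hp, hpd⟩ := Nat.exists_prime_and_dvd hc
    haveI := Fact.mk hp
    refine ⟨p, hp, hab, ?_⟩
    let L : Subgroup G :=
      { carrier := {a | a ∈ N ∧ a ^ p = 1}
        one_mem' := ⟨one_mem _, one_pow _⟩
        mul_mem' := fun {a b} ha hb => ⟨mul_mem ha.1 hb.1, by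
          rw [(show Commute a b from hab a ha.1 b hb.1).mul_pow, ha.2, hb.2, one_mul]⟩
        inv_mem' := fun {a} ha => ⟨inv_mem ha.1, by rw [inv_pow, ha.2, inv_one]⟩ }
    have hLn : L.Normal := ⟨fun a ha g => ⟨Subgroup.Normal.conj_mem ‹N.Normal› a ha.1 g, by
      rw [conj_pow, ha.2]; group⟩⟩
    have hL : L = N := by
      refine hmin L hLn (fun a ha => ha.1) fun hb => ?_
      obtain ⟨a, ha⟩ := exists_prime_orderOf_dvd_card' p hpd
      have : (a : G) ∈ L := ⟨a.2, by
        have h1 := pow_orderOf_eq_one a
        rw [ha] at h1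
        exact congrArg Subtype.val h1⟩
      rw [hb, mem_bot] at this
      have h1 : a = 1 := Subtype.ext this
      rw [h1, orderOf_one] at ha
      exact hp.ne_one ha.symm
    intro a ha
    rw [← hL] at ha
    exact ha.2
  · right
    constructor
    · have h1 : (commutator N).map N.subtype = N := by
        refine hmin _ inferInstance (map_subtype_le _) fun h => hab fun a ha b hb => ?_
        have h2 : ⁅(⟨a, ha⟩ : N), (⟨b, hb⟩ : N)⁆ ∈ commutator N :=
          commutator_mem_commutator (mem_top _) (mem_top _)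
        have h3 := h ▸ mem_map_of_mem N.subtype h2
        rw [mem_bot] at h3
        exact congrArg Subtype.val (commutatorElement_eq_one_iff_mul_comm.1
          (Subtype.ext h3 : ⁅(⟨a, ha⟩ : N), (⟨b, hb⟩ : N)⁆ = 1))
      refine map_injective N.subtype_injective ?_
      rw [h1, ← MonoidHom.range_eq_map, range_subtype]
    · refine map_injective N.subtype_injective ?_
      rw [Subgroup.map_bot]
      by_contra h
      have h1 := hmin ((center N).map N.subtype) inferInstance (map_subtype_le _) h
      refine hab fun a ha b hb => ?_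
      obtain ⟨a', ha', rfl⟩ : a ∈ (center N).map N.subtype := h1.symm ▸ ha
      exact (congrArg Subtype.val (mem_center_iff.1 ha' ⟨b, hb⟩)).symm

theorem exists_minimal_normal_le (T : Subgroup G) (hT : T.Normal) (hne : T ≠ ⊥) :
    ∃ N : Subgroup G, N.Normal ∧ N ≤ T ∧ N ≠ ⊥ ∧
      ∀ L : Subgroup G, L.Normal → L ≤ N → L ≠ ⊥ → L = N := by
  obtain ⟨N, hNspec, hNmin⟩ := Set.Finite.exists_minimal
    (Set.toFinite {N : Subgroup G | N.Normal ∧ N ≤ T ∧ N ≠ ⊥}) ⟨T, hT, le_rfl, hne⟩
  exact ⟨N, hNspec.1, hNspec.2.1, hNspec.2.2, fun L hL hle hL1 =>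
    le_antisymm hle (hNmin ⟨hL, hle.trans hNspec.2.1, hL1⟩ hle)⟩

/-- An involution without fixed points on a normal odd subgroup inverts it. -/
theorem inverts_of_fpf (O : Subgroup G) [hOn : O.Normal] {x : G} (hxx : x * x = 1)
    (hfix : ∀ o ∈ O, x * o = o * x → o = 1) : ∀ o ∈ O, x * o * x = o⁻¹ := by
  have hxi : x⁻¹ = x := inv_eq_of_mul_eq_one_right hxx
  let f : O → O := fun o => ⟨(o : G)⁻¹ * (x * o * x⁻¹), mul_mem (inv_mem o.2) (hOn.conj_mem o o.2 x)⟩
  have hinj : Function.Injective f := by
    intro a b hab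
    have h1 : (a : G)⁻¹ * (x * a * x⁻¹) = (b : G)⁻¹ * (x * b * x⁻¹) := congrArg Subtype.val hab
    have h2 : x * ((b : G) * (a : G)⁻¹) = ((b : G) * (a : G)⁻¹) * x := by
      calc x * ((b : G) * (a : G)⁻¹) = (b : G) * ((b : G)⁻¹ * (x * b * x⁻¹)) * (x * (a : G)⁻¹) := by group
        _ = (b : G) * ((a : G)⁻¹ * (x * a * x⁻¹)) * (x * (a : G)⁻¹) := by rw [h1]
        _ = ((b : G) * (a : G)⁻¹) * x := by group
    have h3 := hfix _ (mul_mem b.2 (inv_mem a.2)) h2
    exact Subtype.ext (mul_inv_eq_one.1 h3).symm
  intro o ho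
  obtain ⟨a, ha⟩ := (Finite.injective_iff_surjective.1 hinj) ⟨o, ho⟩
  have h1 : (a : G)⁻¹ * (x * a * x⁻¹) = o := congrArg Subtype.val ha
  rw [← h1, hxi]
  calc x * ((a : G)⁻¹ * (x * a * x)) * x = x * (a : G)⁻¹ * x * a * (x * x) := by group
    _ = ((a : G)⁻¹ * (x * a * x⁻¹))⁻¹ := by rw [hxx]; simp [mul_assoc, hxi]
    _ = _ := by rw [hxi]

theorem eq_one_of_sq_of_odd {o : G} {M : Subgroup G} (hM : Odd (Nat.card M)) (ho : o ∈ M)
    (h : o ^ 2 = 1) : o = 1 := by
  obtain ⟨k, hk⟩ := hM
  have h1 : o ^ Nat.card M = 1 := congrArg Subtype.val (pow_card_eq_one' (x := (⟨o, ho⟩ : M)))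
  rwa [hk, pow_succ, pow_mul, h, one_pow, one_mul] at h1

/-- The dihedral case. -/
theorem false_of_index_two {x : G} (hxx : x * x = 1) (H : Subgroup G) (hH : H.index = 2)
    (hxH : x ∉ H) (hC4 : Nat.card (centralizer ({x} : Set G)) = 4)
    (hCe : ∀ c ∈ centralizer ({x} : Set G), c ^ 2 = 1)
    (hnc : ¬ Cfsg.HasNormalPComplement 2 G)
    (hne : ∀ E : Subgroup G, E.Normal → Cfsg.IsElementaryAbelian 2 E →
      Nat.card E ≠ 2 ∧ Nat.card E ≠ 4) : False := by
  classical
  haveI : Fact (Nat.Prime 2) := ⟨Nat.prime_two⟩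
  set C := centralizer ({x} : Set G) with hC
  have hxi : x⁻¹ = x := inv_eq_of_mul_eq_one_right hxx
  obtain ⟨O, ⟨hOn, hOodd⟩, hOmax⟩ := Set.Finite.exists_maximal
    (Set.toFinite {O : Subgroup G | O.Normal ∧ Odd (Nat.card O)})
    ⟨⊥, inferInstance, by rw [card_bot]; exact odd_one⟩
  haveI := hOn
  have hfix : ∀ o ∈ O, x * o = o * x → o = 1 := fun o ho h =>
    eq_one_of_sq_of_odd hOodd ho (hCe o (mem_centralizer_singleton_iff.2 h.symm))
  have hinv := inverts_of_fpf O hxx hfix
  have hOab : ∀ a ∈ O, ∀ b ∈ O, a * b = b * a := by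
    intro a ha b hb
    have h1 : (x * a * x) * (x * b * x) = x * (a * b) * x := by
      calc (x * a * x) * (x * b * x) = x * a * (x * x) * b * x := by group
        _ = x * (a * b) * x := by rw [hxx]; group
    rw [hinv a ha, hinv b hb, hinv _ (mul_mem ha hb)] at h1
    have := congrArg (·⁻¹) h1
    simp only [mul_inv_rev, inv_inv] at this
    exact this.symm
  have hOH : O ≤ H := by
    intro o ho
    have h1 := sq_mem_of_index_two hH o
    obtain ⟨k, hk⟩ := hOodd
    have h2 : o ^ Nat.card O = 1 := congrArg Subtype.val (pow_card_eq_one' (x := (⟨o, ho⟩ : O)))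
    rw [hk, pow_succ, pow_mul] at h2
    rw [eq_inv_of_mul_eq_one_right h2]
    exact inv_mem (pow_mem h1 k)
  set π := QuotientGroup.mk' O with hπ
  have hsurj := QuotientGroup.mk'_surjective O
  have hker : ∀ g, π g = 1 ↔ g ∈ O := fun g => QuotientGroup.eq_one_iff g
  -- centralizer in the quotient
  have hlift : ∀ g, π x * π g = π g * π x → ∃ w ∈ O, w * g ∈ C := by
    intro g hg
    set o := x⁻¹ * (g * x * g⁻¹) with ho
    have hoO : o ∈ O := by
      rw [← hker, ho, map_mul, map_mul, map_mul, map_inv, map_inv, ← hg]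
      group
    obtain ⟨k, hk⟩ := hOodd
    set w := o ^ (k + 1) with hw
    have hwO : w ∈ O := pow_mem hoO _
    have hww : w * w = o := by
      have h2 : o ^ Nat.card O = 1 := congrArg Subtype.val (pow_card_eq_one' (x := (⟨o, hoO⟩ : O)))
      rw [hw, ← pow_add, show k + 1 + (k + 1) = Nat.card O + 1 by omega, pow_succ, h2, one_mul]
    refine ⟨w, hwO, ?_⟩
    rw [hC, mem_centralizer_singleton_iff, ← mul_inv_eq_iff_eq_mul]
    calc w * g * x * (w * g)⁻¹ = w * x * (x⁻¹ * (g * x * g⁻¹)) * w⁻¹ := by group
      _ = w * x * (w * w) * w⁻¹ := by rw [← ho, hww]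
      _ = x * (x⁻¹ * w * x) * w := by group
      _ = x := by rw [hxi, hinv w hwO, mul_assoc, inv_mul_cancel, mul_one]
  have hCH : Nat.card ↥(C ⊓ H) = 2 := by
    have hi : (H.subgroupOf C).index = 2 := by
      rw [index_eq_two_iff]
      refine ⟨⟨x, mem_centralizer_singleton_iff.2 rfl⟩, fun b => ?_⟩
      simp only [mem_subgroupOf, Subgroup.coe_mul]
      rw [mul_mem_iff_of_index_two hH]
      by_cases hb : (b : G) ∈ H <;> simp [hb, hxH, Xor']
    have h1 := (H.subgroupOf C).card_mul_index
    rw [hi, hC4] at h1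
    have h2 : Nat.card (H.subgroupOf C) = Nat.card ↥(C ⊓ H) := by
      rw [← card_map_of_injective C.subtype_injective, subgroupOf_map_subtype, inf_comm]
    omega
  -- the centralizer of `O`
  set T := centralizer (O : Set G) with hT
  haveI hTn : T.Normal := inferInstance
  have hOT : O ≤ T := fun a ha => mem_centralizer_iff.2 fun b hb => hOab b hb a ha
  have hTO : T ≤ O := by
    by_contra hnle
    have hTne : T.map π ≠ ⊥ := by
      rw [Ne, Subgroup.map_eq_bot_iff, QuotientGroup.ker_mk']
      exact hnle
    obtain ⟨N, hNn, hNT, hN1, hNmin⟩ := exists_minimal_normal_le _ (hTn.map π hsurj) hTne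
    haveI := hNn
    set Y := N.comap π with hY
    have hYT : Y ≤ T := by
      intro y hy
      obtain ⟨t, ht, hty⟩ := hNT hy
      have h1 : t⁻¹ * y ∈ O := by rw [← hker, map_mul, map_inv, hty, inv_mul_cancel]
      simpa using mul_mem ht (hOT h1)
    have hYcard : Nat.card Y = Nat.card O * Nat.card N := by
      have h1 := card_mul_index (O.subgroupOf Y)
      have h2 : (O.subgroupOf Y).index = Nat.card N := by
        have := index_comap_of_surjective (⊥ : Subgroup N)
          (f := π.subgroupComap N) (π.subgroupComap_surjective_of_surjective N hsurj)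
        rw [index_bot] at this
        rw [← this]
        congr 1
        ext y
        rw [mem_subgroupOf, mem_comap, mem_bot, ← hker, Subtype.ext_iff]
        rfl
      rw [h2, Nat.card_congr (subgroupOfEquivOfLe ((by
        intro o ho; rw [hY, mem_comap, (hker o).2 ho]; exact one_mem _) : O ≤ Y)).toEquiv] at h1
      exact h1.symm
    rcases minimal_dichotomy N hN1 hNmin with ⟨p, hp, hNab, hNexp⟩ | ⟨hNperf, hNZ⟩
    · haveI := Fact.mk hp
      have hNp : IsPGroup p N := fun a => ⟨1, Subtype.ext (by simpa using hNexp a a.2)⟩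
      obtain ⟨n, hn⟩ := IsPGroup.iff_card.1 hNp
      rcases hp.eq_two_or_odd' with rfl | hpodd
      swap
      · -- an odd minimal normal subgroup enlarges `O`
        have hle : O ≤ Y := fun o ho => by rw [hY, mem_comap, (hker o).2 ho]; exact one_mem _
        have hYO : Y ≤ O := hOmax ⟨inferInstance, by
          rw [hYcard, hn]; exact hOodd.mul hpodd.pow⟩ hle
        apply hN1
        rw [← map_comap_eq_self_of_surjective hsurj N, Subgroup.map_eq_bot_iff, QuotientGroup.ker_mk']
        exact hYO
      · -- an elementary abelian 2-group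
        have hNcard : Nat.card N ≤ 4 := by
          set Hb := H.map π with hHb
          by_cases hNH : N ≤ Hb
          · -- fixed points of `x` on `N`
            let σ : N →* N :=
              { toFun := fun a => ⟨(a : G ⧸ O) * (π x * a * (π x)⁻¹),
                  mul_mem a.2 (hNn.conj_mem a a.2 _)⟩
                map_one' := Subtype.ext (by simp)
                map_mul' := fun a b => Subtype.ext (by
                  show (a : G ⧸ O) * b * (π x * (a * b) * (π x)⁻¹) =
                    a * (π x * a * (π x)⁻¹) * (b * (π x * b * (π x)⁻¹))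
                  have h1 := hNab b b.2 (π x * a * (π x)⁻¹) (hNn.conj_mem a a.2 _)
                  calc (a : G ⧸ O) * b * (π x * (a * b) * (π x)⁻¹)
                      = a * (b * (π x * a * (π x)⁻¹)) * (π x * b * (π x)⁻¹) := by group
                    _ = _ := by rw [h1]; group) }
            have hsq : ∀ a : N, (a : G ⧸ O)⁻¹ = a := fun a =>
              inv_eq_of_mul_eq_one_right (by rw [← sq]; exact hNexp a a.2)
            have hkerfix : ∀ a : N, σ a = 1 → π x * (a : G ⧸ O) = a * π x := by
              intro a ha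
              have h1 : (a : G ⧸ O) * (π x * a * (π x)⁻¹) = 1 := congrArg Subtype.val ha
              have h2 := eq_inv_of_mul_eq_one_right h1
              rw [hsq, mul_inv_eq_iff_eq_mul] at h2
              exact h2
            have hranfix : ∀ b : N, b ∈ σ.range → σ b = 1 := by
              rintro _ ⟨a, rfl⟩
              refine Subtype.ext ?_
              show (a : G ⧸ O) * (π x * a * (π x)⁻¹) *
                (π x * ((a : G ⧸ O) * (π x * a * (π x)⁻¹)) * (π x)⁻¹) = 1
              have hx2 : π x * π x = 1 := by rw [← map_mul, hxx, map_one]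
              have hx2' : (π x)⁻¹ = π x := inv_eq_of_mul_eq_one_right hx2
              calc _ = (a : G ⧸ O) * (π x * a * (π x)⁻¹) * (π x * a * (π x)⁻¹) *
                    (π x * π x * a * ((π x)⁻¹ * (π x)⁻¹)) := by group
                _ = (a : G ⧸ O) * (π x * (a * a) * (π x)⁻¹) * a := by
                  rw [show (π x)⁻¹ * (π x)⁻¹ = 1 by rw [hx2', hx2], hx2]; group
                _ = 1 := by rw [← sq, hNexp a a.2]; simp [← sq, hNexp a a.2]
            have hkc : Nat.card σ.ker ≤ 2 := by
              rw [← hCH]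
              haveI : Finite ↥(C ⊓ H) := inferInstance
              refine Nat.card_le_card_of_surjective (α := ↥(C ⊓ H))
                (β := σ.ker) (fun c => if hc : ∃ a : σ.ker, ((a : N) : G ⧸ O) = π c then hc.choose
                  else 1) fun a => ?_
              obtain ⟨h, hh, hha⟩ := hNH (a : N).2
              obtain ⟨w, hwO, hwC⟩ := hlift h (by
                rw [hha]; exact hkerfix _ (MonoidHom.mem_ker.1 a.2))
              refine ⟨⟨w * h, mem_inf.2 ⟨hwC, mul_mem (hOH hwO) hh⟩⟩, ?_⟩
              have hπw : π (w * h) = ((a : N) : G ⧸ O) := by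
                rw [map_mul, (hker w).2 hwO, one_mul, hha]
              have hex : ∃ b : σ.ker, ((b : N) : G ⧸ O) = π (w * h) := ⟨a, hπw.symm⟩
              simp only [dif_pos hex]
              exact Subtype.ext (Subtype.ext (hex.choose_spec.trans hπw))
            have hrc : Nat.card σ.range ≤ Nat.card σ.ker :=
              Nat.card_le_card_of_injective
                (fun b => (⟨b, MonoidHom.mem_ker.2 (hranfix b b.2)⟩ : σ.ker))
                (fun b c e => Subtype.ext (congrArg (fun z : σ.ker => (z : N)) e))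
            have h1 := σ.ker.card_mul_index
            rw [index_ker] at h1
            have := Nat.mul_le_mul hkc (hrc.trans hkc)
            omega
          · have hd : N ⊓ Hb = ⊥ := by
              by_contra hd
              haveI : (H.map π).Normal := (normal_of_index_eq_two hH).map π hsurj
              exact hNH (inf_eq_left.1 (hNmin _ inferInstance inf_le_left hd))
            have hi : Hb.index = 2 := by
              rw [hHb, index_map_eq _ hsurj (by rw [QuotientGroup.ker_mk']; exact hOH), hH]
            have : Nat.card N ∣ 2 := by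
              rw [← hi, ← relIndex_bot_left N, ← hd, inf_relIndex_left]
              haveI : Hb.Normal := normal_of_index_eq_two hi
              exact relIndex_dvd_index_of_normal _ _
            have := Nat.le_of_dvd two_pos this
            omega
        -- lift it to a normal subgroup
        have hcent : ∀ o ∈ O, ∀ y ∈ Y, y * o = o * y := fun o ho y hy =>
          (mem_centralizer_iff.1 (hYT hy) o ho).symm
        have hY2 : ∀ y ∈ Y, y ^ 2 ∈ O := fun y hy => by
          rw [← hker, map_pow]; exact hNexp _ hy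
        have hYab : ∀ y ∈ Y, ∀ z ∈ Y, y * z = z * y := by
          intro y hy z hz
          set c := y * z * y⁻¹ * z⁻¹ with hc
          have hcO : c ∈ O := by
            rw [← hker, hc, map_mul, map_mul, map_mul, map_inv, map_inv,
              hNab _ hy _ hz]
            group
          have hcy : y * c = c * y := hcent c hcO y hy
          have h2 : c ^ 2 = 1 := by
            have e : y * z * y⁻¹ = c * z := by rw [hc]; group
            clear_value c
            have e2 : y ^ 2 * z * (y ^ 2)⁻¹ = c ^ 2 * z := by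
              calc y ^ 2 * z * (y ^ 2)⁻¹ = y * (y * z * y⁻¹) * y⁻¹ := by rw [sq]; group
                _ = y * (c * z) * y⁻¹ := by rw [e]
                _ = y * c * y⁻¹ * (y * z * y⁻¹) := by group
                _ = c ^ 2 * z := by
                  rw [show y * c * y⁻¹ = c by rw [hcy, mul_inv_cancel_right],
                    show y * z * y⁻¹ = c * z from e, sq, mul_assoc]
            have e3 : z * y ^ 2 = y ^ 2 * z := hcent _ (hY2 y hy) z hz
            rw [← e3, mul_inv_cancel_right] at e2
            exact mul_eq_right.1 e2.symm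
          have := eq_one_of_sq_of_odd hOodd hcO h2
          rw [hc, ← commutatorElement_def] at this
          exact commutatorElement_eq_one_iff_mul_comm.1 this
        let E : Subgroup G :=
          { carrier := {a | a ∈ Y ∧ a ^ 2 = 1}
            one_mem' := ⟨one_mem _, one_pow _⟩
            mul_mem' := fun {a b} ha hb => ⟨mul_mem ha.1 hb.1, by
              rw [(show Commute a b from hYab a ha.1 b hb.1).mul_pow, ha.2, hb.2, one_mul]⟩
            inv_mem' := fun {a} ha => ⟨inv_mem ha.1, by rw [inv_pow, ha.2, inv_one]⟩ }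
        have hEn : E.Normal := ⟨fun a ha g =>
          ⟨(inferInstance : Y.Normal).conj_mem a ha.1 g, by rw [conj_pow, ha.2]; group⟩⟩
        have hEel : Cfsg.IsElementaryAbelian 2 E :=
          ⟨⟨⟨fun a b => Subtype.ext (hYab a a.2.1 b b.2.1)⟩⟩, fun a ha => ha.2⟩
        have hEN : Nat.card E = Nat.card N := by
          refine Nat.card_congr (Equiv.ofBijective (fun e : E => (⟨π e, e.2.1⟩ : N)) ⟨?_, ?_⟩)
          · intro a b e
            have h1 : π a = π b := congrArg Subtype.val e
            have h2 : (a : G)⁻¹ * b ∈ O := by rw [← hker, map_mul, map_inv, h1, inv_mul_cancel]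
            have h3 := eq_one_of_sq_of_odd hOodd h2 (mul_mem (inv_mem a.2) b.2 : _ ∈ E).2
            exact Subtype.ext (inv_mul_eq_one.1 h3)
          · rintro ⟨v, hv⟩
            obtain ⟨y, rfl⟩ := hsurj v
            refine ⟨⟨y ^ Nat.card O, pow_mem (show y ∈ Y from hv) _, ?_⟩, Subtype.ext ?_⟩
            · rw [← pow_mul, mul_comm, pow_mul]
              exact congrArg Subtype.val (pow_card_eq_one' (x := (⟨_, hY2 y hv⟩ : O)))
            · show π (y ^ Nat.card O) = π y
              obtain ⟨k, hk⟩ := hOodd
              rw [map_pow, hk, pow_succ, pow_mul, hNexp _ hv, one_pow, one_mul]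
        obtain ⟨hne2, hne4⟩ := hne E hEn hEel
        rw [hEN] at hne2 hne4
        rw [hn] at hne2 hne4 hNcard
        rcases (show n = 0 ∨ n = 1 ∨ n = 2 ∨ 3 ≤ n by omega) with rfl | rfl | rfl | h3
        · exact hN1 (eq_bot_of_card_eq _ (by rw [hn, pow_zero]))
        · exact hne2 rfl
        · exact hne4 rfl
        · have : 2 ^ 3 ≤ 2 ^ n := Nat.pow_le_pow_right two_pos h3
          omega
    · -- a perfect minimal normal subgroup
      haveI : Nontrivial N := (nontrivial_iff_ne_bot N).2 hN1
      have hx2 : π x * π x = 1 := by rw [← map_mul, hxx, map_one]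
      have hx2' : (π x)⁻¹ = π x := inv_eq_of_mul_eq_one_right hx2
      have h3 := two_lt_card_fixed hNperf hNZ (MulAut.conjNormal (π x)) fun k => Subtype.ext (by
        rw [MulAut.conjNormal_apply, MulAut.conjNormal_apply, hx2']
        calc π x * (π x * (k : G ⧸ O) * π x) * π x = (π x * π x) * k * (π x * π x) := by group
          _ = _ := by rw [hx2, one_mul, mul_one])
      have hNH : N ≤ H.map π := by
        have hi : (H.map π).index = 2 := by
          rw [index_map_eq _ hsurj (by rw [QuotientGroup.ker_mk']; exact hOH), hH]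
        intro v hv
        have hv' : (⟨v, hv⟩ : N) ∈ commutator N := hNperf.symm ▸ mem_top _
        have hle : commutator N ≤ (H.map π).subgroupOf N := by
          rw [_root_.commutator_def, commutator_le]
          intro a _ b _
          rw [mem_subgroupOf]
          simp only [commutatorElement_def, Subgroup.coe_mul, Subgroup.coe_inv,
            mul_mem_iff_of_index_two hi, inv_mem_iff]
          tauto
        exact hle hv'
      have hle : Nat.card {k : N // MulAut.conjNormal (π x) k = k} ≤ Nat.card ↥(C ⊓ H) := by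
        refine Nat.card_le_card_of_surjective (fun c : ↥(C ⊓ H) =>
          if hc : ∃ a : {k : N // MulAut.conjNormal (π x) k = k}, ((a : N) : G ⧸ O) = π c
            then hc.choose else ⟨1, map_one _⟩) fun a => ?_
        obtain ⟨h, hh, hha⟩ := hNH (a : N).2
        have h1 := congrArg Subtype.val a.2
        rw [MulAut.conjNormal_apply, mul_inv_eq_iff_eq_mul] at h1
        obtain ⟨w, hwO, hwC⟩ := hlift h (by rw [hha]; exact h1)
        refine ⟨⟨w * h, mem_inf.2 ⟨hwC, mul_mem (hOH hwO) hh⟩⟩, ?_⟩
        have hπw : π (w * h) = ((a : N) : G ⧸ O) := by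
          rw [map_mul, (hker w).2 hwO, one_mul, hha]
        have hex : ∃ b : {k : N // MulAut.conjNormal (π x) k = k},
            ((b : N) : G ⧸ O) = π (w * h) := ⟨a, hπw.symm⟩
        simp only [dif_pos hex]
        exact Subtype.ext (Subtype.ext (hex.choose_spec.trans hπw))
      omega
  -- `x` is central modulo `O`
  have hcentral : ∀ g : G, π x * π g = π g * π x := by
    intro g
    have hmem : g⁻¹ * x * g * x ∈ T := by
      refine mem_centralizer_iff.2 fun o ho => ?_
      have h1 := hinv o ho
      have h2 := hinv _ (hOn.conj_mem _ (inv_mem ho) g)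
      have : g⁻¹ * x * g * x * o * (g⁻¹ * x * g * x)⁻¹ = o := by
        calc g⁻¹ * x * g * x * o * (g⁻¹ * x * g * x)⁻¹
            = g⁻¹ * x * g * (x * o * x⁻¹) * g⁻¹ * x⁻¹ * g := by group
          _ = g⁻¹ * (x * (g * o⁻¹ * g⁻¹) * x) * g := by rw [hxi, h1]; group
          _ = o := by rw [h2]; group
      exact (mul_inv_eq_iff_eq_mul.1 this).symm
    have h := (hker _).2 (hTO hmem)
    rw [map_mul, map_mul, map_mul, map_inv] at h
    have hx2 : π x * π x = 1 := by rw [← map_mul, hxx, map_one]
    calc π x * π g = π g * ((π g)⁻¹ * π x * π g * π x) * (π x)⁻¹ := by group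
      _ = π g * π x := by rw [h, mul_one, inv_eq_of_mul_eq_one_right hx2]
  have hidx : O.index = 4 := by
    rw [Subgroup.index, ← hC4]
    refine (Nat.card_congr (Equiv.ofBijective (fun c : C => ((c : G) : G ⧸ O)) ⟨?_, ?_⟩)).symm
    · intro a b e
      have h2 : (a : G)⁻¹ * b ∈ O := QuotientGroup.eq.1 e
      exact Subtype.ext (inv_mul_eq_one.1 (eq_one_of_sq_of_odd hOodd h2
        (hCe _ (mul_mem (inv_mem a.2) b.2))))
    · intro v
      obtain ⟨g, rfl⟩ := hsurj v
      obtain ⟨w, hwO, hwC⟩ := hlift g (hcentral g)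
      refine ⟨⟨w * g, hwC⟩, ?_⟩
      show π (w * g) = π g
      rw [map_mul, (hker w).2 hwO, one_mul]
  obtain ⟨P⟩ : Nonempty (Sylow 2 G) := inferInstance
  refine hnc ⟨P, O, hOn, ?_⟩
  have hcop : (Nat.card O).Coprime (2 ^ 2) :=
    Nat.Coprime.pow_right 2 (Nat.coprime_two_right.2 hOodd)
  have hP : Nat.card (P : Subgroup G) = 4 := by
    rw [P.card_eq_multiplicity, ← O.card_mul_index, hidx, show 4 = 2 ^ 2 from rfl,
      Nat.factorization_mul Nat.card_pos.ne' (by norm_num), Finsupp.add_apply,
      Nat.factorization_eq_zero_of_not_dvd (Nat.two_dvd_ne_zero.2 (Nat.odd_iff.1 hOodd)),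
      Nat.Prime.factorization_pow Nat.prime_two]
    simp
  refine isComplement'_of_coprime ?_ ?_
  · rw [hP, ← hidx, O.card_mul_index]
  · rw [hP]; exact hcop

/-- Fusion in a four group equal to the centralizer of an involution. -/
theorem fusion_data {K : Type*} [Group K] [Finite K] {x : K} (V : Sylow 2 K) (hx1 : x ≠ 1)
    (hV : (V : Subgroup K) = centralizer ({x} : Set K)) (h4 : Nat.card (V : Subgroup K) = 4)
    (hsq : ∀ w ∈ (V : Subgroup K), w ^ 2 = 1)
    (hnot : ¬ normalizer ((V : Subgroup K) : Set K) ≤ centralizer ((V : Subgroup K) : Set K)) :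
    (∀ w ∈ (V : Subgroup K), w ≠ 1 →
      ∃ n ∈ normalizer ((V : Subgroup K) : Set K), n * x * n⁻¹ = w) ∧
    Nat.card (normalizer ((V : Subgroup K) : Set K)) = 12 := by
  classical
  set N := normalizer ((V : Subgroup K) : Set K) with hN
  have hVcomm : ∀ a ∈ (V : Subgroup K), ∀ b ∈ (V : Subgroup K), a * b = b * a := by
    intro a ha b hb
    have e : ∀ w ∈ (V : Subgroup K), w⁻¹ = w := fun w hw =>
      inv_eq_of_mul_eq_one_right (by rw [← sq, hsq w hw])
    have := e _ (mul_mem ha hb)
    rwa [mul_inv_rev, e a ha, e b hb, eq_comm] at this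
  have hxV : x ∈ (V : Subgroup K) := hV ▸ mem_centralizer_singleton_iff.2 rfl
  obtain ⟨g, hgN, hgC⟩ : ∃ g ∈ N, g ∉ (V : Subgroup K) := by
    by_contra hcon
    push Not at hcon
    exact hnot fun n hn => mem_centralizer_iff.2 fun w hw => hVcomm w hw n (hcon n hn)
  have hgV : ∀ w ∈ (V : Subgroup K), g * w * g⁻¹ ∈ (V : Subgroup K) := fun w hw =>
    (mem_normalizer_iff.1 hgN w).1 hw
  set y := g * x * g⁻¹ with hy
  set z := g * y * g⁻¹ with hz
  have hy1 : y ≠ 1 := fun h => hx1 (conj_eq_one_iff.1 h)
  have hz1 : z ≠ 1 := fun h => hy1 (conj_eq_one_iff.1 h)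
  have hyx : y ≠ x := fun h => hgC (by
    rw [hV]; exact mem_centralizer_singleton_iff.2 (mul_inv_eq_iff_eq_mul.1 h))
  have hzy : z ≠ y := fun h => hyx (mul_left_cancel (mul_right_cancel
    (h : g * y * g⁻¹ = g * x * g⁻¹)))
  have hzx : z ≠ x := by
    intro h
    have hg2 : g * g ∈ (V : Subgroup K) := by
      rw [hV, mem_centralizer_singleton_iff, ← mul_inv_eq_iff_eq_mul]
      calc g * g * x * (g * g)⁻¹ = g * (g * x * g⁻¹) * g⁻¹ := by group
        _ = x := h
    have hp : IsPGroup 2 (zpowers g) := by
      rintro ⟨_, i, rfl⟩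
      refine ⟨2, Subtype.ext ?_⟩
      show (g ^ i) ^ (2 ^ 2) = 1
      rw [← zpow_natCast, ← zpow_mul, mul_comm i, zpow_mul, zpow_natCast,
        show (2 : ℕ) ^ 2 = 2 * 2 from rfl, pow_mul, sq g, hsq _ hg2, one_zpow]
    have := hp.inf_normalizer_sylow V
    exact hgC ((mem_inf.1 (this ▸ mem_inf.2 ⟨mem_zpowers g, hgN⟩)).2)
  have hlist : ∀ w ∈ (V : Subgroup K), w ≠ 1 → w = x ∨ w = y ∨ w = z := by
    intro w hw hw1
    exact (Cfsg.Agent.S3278.mem_list h4 (one_mem _) hxV (hgV x hxV) (hgV y (hgV x hxV)) hx1.symm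
      hy1.symm hz1.symm hyx.symm hzx.symm hzy.symm hw).resolve_left hw1
  constructor
  · intro w hw hw1
    rcases hlist w hw hw1 with rfl | rfl | rfl
    · exact ⟨1, one_mem _, by group⟩
    · exact ⟨g, hgN, rfl⟩
    · exact ⟨g * g, mul_mem hgN hgN, by rw [hz, hy]; group⟩
  · have hVN : (V : Subgroup K) ≤ N := le_normalizer
    have hup : Nat.card N ≤ 4 * 3 := by
      have h1 := card_le_mul_centralizer N x {x, y, z} fun m hm => by
        rcases hlist (m * x * m⁻¹) ((mem_normalizer_iff.1 hm x).1 hxV)
          (fun h => hx1 (conj_eq_one_iff.1 h)) with h | h | h <;> simp [h]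
      rw [← hV, h4] at h1
      exact h1.trans (Nat.mul_le_mul_left 4 Finset.card_le_three)
    have hmul := card_mul_index ((V : Subgroup K).subgroupOf N)
    rw [Nat.card_congr (subgroupOfEquivOfLe hVN).toEquiv, h4] at hmul
    have hne : ((V : Subgroup K).subgroupOf N).index ≠ 1 := fun h =>
      hgC (relIndex_eq_one.1 h hgN)
    have hodd : ¬ 2 ∣ ((V : Subgroup K).subgroupOf N).index := fun h => V.not_dvd_index
      (h.trans (relIndex_dvd_index_of_le hVN))
    have h0 : ((V : Subgroup K).subgroupOf N).index ≠ 0 := index_ne_zero_of_finite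
    omega

/-- Burnside transfer: a perfect group is not 2-nilpotent. -/
theorem not_normalizer_le_centralizer {K : Type*} [Group K] [Finite K] (hperf : commutator K = ⊤)
    (P : Sylow 2 K) (hP : (P : Subgroup K) ≠ ⊥) :
    ¬ normalizer ((P : Subgroup K) : Set K) ≤ centralizer ((P : Subgroup K) : Set K) := by
  intro h
  have hc := MonoidHom.ker_transferSylow_isComplement' P h
  have hk : (MonoidHom.transferSylow P h).ker = ⊤ := by
    rw [eq_top_iff, ← hperf, _root_.commutator_def, commutator_le]
    intro a _ b _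
    have hcomm : ∀ u v : (P : Subgroup K), u * v = v * u := fun u v => Subtype.ext
      ((mem_centralizer_iff.1 (h (le_normalizer u.2)) v v.2).symm)
    rw [MonoidHom.mem_ker, map_commutatorElement, commutatorElement_eq_one_iff_mul_comm]
    exact hcomm _ _
  rw [hk, isComplement'_top_left] at hc
  exact hP hc

/-- The main theorem. -/
theorem nonempty_iso {x : G} (hx : orderOf x = 2)
    (hC4 : Nat.card (centralizer ({x} : Set G)) = 4)
    (hCe : ∀ c ∈ centralizer ({x} : Set G), c ^ 2 = 1)
    (hnc : ¬ Cfsg.HasNormalPComplement 2 G)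
    (hne : ∀ E : Subgroup G, E.Normal → Cfsg.IsElementaryAbelian 2 E →
      Nat.card E ≠ 2 ∧ Nat.card E ≠ 4) :
    Nonempty (G ≃* ↥(alternatingGroup (Fin 5))) := by
  classical
  haveI : Fact (Nat.Prime 2) := ⟨Nat.prime_two⟩
  haveI : Fact (Nat.Prime 5) := ⟨by norm_num⟩
  have hxx := CfsgLib.Invol.mul_self_eq_one hx
  have hx1 := CfsgLib.Invol.ne_one hx
  set C := centralizer ({x} : Set G) with hC
  have hxC : x ∈ C := mem_centralizer_singleton_iff.2 rfl
  obtain ⟨P, hCP⟩ := (IsPGroup.of_card (n := 2) (by rw [hC4]; norm_num) : IsPGroup 2 C).exists_le_sylow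
  by_cases hP4 : Nat.card (P : Subgroup G) = 4
  swap
  · exfalso
    set xP : (P : Subgroup G) := ⟨x, hCP hxC⟩
    have hcS : Nat.card (centralizer ({xP} : Set (P : Subgroup G))) = 4 := by
      have e : centralizer ({xP} : Set (P : Subgroup G)) = C.subgroupOf (P : Subgroup G) := by
        ext s
        rw [mem_centralizer_singleton_iff, mem_subgroupOf, hC, mem_centralizer_singleton_iff,
          Subtype.ext_iff]
        rfl
      rw [e, Nat.card_congr (subgroupOfEquivOfLe hCP).toEquiv, hC4]
    obtain ⟨a, ha2, -, hxa⟩ := Cfsg.Agent.S3224.exists_cyclic _ (P : Subgroup G) rfl P.isPGroup'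
      xP (by rw [← Subgroup.orderOf_coe]; exact hx) hcS hP4
    have hMS : zpowers (a : G) ≤ (P : Subgroup G) := zpowers_le.2 a.2
    have hsub : (zpowers (a : G)).subgroupOf (P : Subgroup G) = zpowers a := by
      rw [show zpowers (a : G) = (zpowers a).map (P : Subgroup G).subtype from
        ((P : Subgroup G).subtype.map_zpowers a).symm]
      exact comap_map_eq_self_of_injective (P : Subgroup G).subtype_injective _
    rcases CfsgLib.ThompsonTransfer.thompson_transfer (P : Subgroup G) (zpowers (a : G))
      (Nat.odd_iff.2 (Nat.two_dvd_ne_zero.1 P.not_dvd_index))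
      (by rw [relIndex, hsub]; exact ha2) hxx with ⟨H, -, hH, hxH⟩ | ⟨g, hg⟩
    · exact false_of_index_two hxx H hH hxH hC4 hCe hnc hne
    · set w := g * x * g⁻¹ with hw
      have hw2 : orderOf w = 2 := by rw [hw, CfsgLib.Invol.orderOf_conj_eq, hx]
      haveI := normal_of_index_eq_two ha2
      have hwc : (P : Subgroup G) ≤ centralizer ({w} : Set G) := by
        intro s hs
        have hmem : (⟨w, hMS hg⟩ : (P : Subgroup G)) ∈ zpowers a := by
          rw [← hsub, mem_subgroupOf]; exact hg
        have h1 := ‹(zpowers a).Normal›.conj_mem _ hmem ⟨s, hs⟩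
        rw [← hsub, mem_subgroupOf] at h1
        have h2 : s * w * s⁻¹ ∈ zpowers (a : G) := h1
        exact mem_centralizer_singleton_iff.2 (mul_inv_eq_iff_eq_mul.1
          (Cfsg.Agent.S3278.invol_unique h2 hg (by rw [CfsgLib.Invol.orderOf_conj_eq, hw2]) hw2))
      have hcw : centralizer ({w} : Set G) ≤ C.map (MulAut.conj g).toMonoidHom := by
        intro c hc
        refine ⟨g⁻¹ * c * g, ?_, by show g * (g⁻¹ * c * g) * g⁻¹ = c; group⟩
        rw [SetLike.mem_coe, hC, mem_centralizer_singleton_iff]
        have h2 := mem_centralizer_singleton_iff.1 hc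
        calc g⁻¹ * c * g * x = g⁻¹ * (c * w) * g := by rw [hw]; group
          _ = x * (g⁻¹ * c * g) := by rw [h2, hw]; group
      have h8 := (Subgroup.card_le_of_le (hwc.trans hcw))
      rw [Subgroup.card_map_of_injective (MulEquiv.injective _), hC4] at h8
      have h4 := Subgroup.card_le_of_le hCP
      rw [hC4] at h4
      omega
  · have hPC : (P : Subgroup G) = C := (eq_of_le_of_card_ge hCP (by rw [hP4, hC4])).symm
    have hsq : ∀ w ∈ (P : Subgroup G), w ^ 2 = 1 := fun w hw => hCe w (hPC ▸ hw)
    have hnot : ¬ normalizer ((P : Subgroup G) : Set G) ≤ centralizer ((P : Subgroup G) : Set G) :=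
      fun h => hnc ⟨P, _, inferInstance, MonoidHom.ker_transferSylow_isComplement' P h⟩
    obtain ⟨hfus, hN12⟩ := fusion_data P hx1 hPC hP4 hsq hnot
    obtain ⟨n₁, hn₁, hn₁x⟩ : ∃ n ∈ normalizer ((P : Subgroup G) : Set G), n * x * n⁻¹ ≠ x := by
      by_contra hcon
      push Not at hcon
      have hle : normalizer ((P : Subgroup G) : Set G) ≤ C := fun n hn =>
        mem_centralizer_singleton_iff.2 (mul_inv_eq_iff_eq_mul.1 (hcon n hn))
      have := Subgroup.card_le_of_le hle
      rw [hN12, hC4] at this
      omega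
    -- no odd normal subgroup
    have hodd1 : ∀ M : Subgroup G, M.Normal → Odd (Nat.card M) → M = ⊥ := by
      intro M hMn hM
      haveI := hMn
      have hconj : ∀ w ∈ (P : Subgroup G), w ≠ 1 → ∀ o ∈ M, w * o = o * w → o = 1 := by
        intro w hw hw1 o ho hcomm
        obtain ⟨n, -, rfl⟩ := hfus w hw hw1
        have h1 : n⁻¹ * o * n⁻¹⁻¹ ∈ C := by
          rw [hC, mem_centralizer_singleton_iff, inv_inv]
          calc n⁻¹ * o * n * x = n⁻¹ * (o * (n * x * n⁻¹)) * n := by group
            _ = x * (n⁻¹ * o * n) := by rw [← hcomm]; group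
        have h2 := eq_one_of_sq_of_odd hM (hMn.conj_mem o ho n⁻¹) (hCe _ h1)
        exact conj_eq_one_iff.1 h2
      set y := n₁ * x * n₁⁻¹ with hy
      have hxP : x ∈ (P : Subgroup G) := hCP hxC
      have hyP : y ∈ (P : Subgroup G) := (mem_normalizer_iff.1 hn₁ x).1 hxP
      have hy1 : y ≠ 1 := fun h => hx1 (conj_eq_one_iff.1 h)
      have hyy : y * y = 1 := by rw [← sq]; exact hsq y hyP
      have hix := inverts_of_fpf M hxx (hconj x hxP hx1)
      have hiy := inverts_of_fpf M hyy (hconj y hyP hy1)
      refine (eq_bot_iff_forall _).2 fun o ho => hconj (x * y) (mul_mem hxP hyP) (fun h => hn₁x ?_) o ho ?_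
      · rw [eq_inv_of_mul_eq_one_right h, inv_eq_of_mul_eq_one_right hxx]
      · have hxi := inv_eq_of_mul_eq_one_right hxx
        have hyi := inv_eq_of_mul_eq_one_right hyy
        have h1 : x * y * o * (x * y)⁻¹ = o := by
          rw [mul_inv_rev, hxi, hyi]
          calc x * y * o * (y * x) = x * (y * o * y) * x := by group
            _ = o := by rw [hiy o ho, hix _ (inv_mem ho), inv_inv]
        exact mul_inv_eq_iff_eq_mul.1 h1
    haveI : Nontrivial G := ⟨⟨x, 1, hx1⟩⟩
    obtain ⟨N, hNn, -, hN1, hNmin⟩ := exists_minimal_normal_le (⊤ : Subgroup G) inferInstance top_ne_bot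
    haveI := hNn
    rcases minimal_dichotomy N hN1 hNmin with ⟨p, hp, hNab, hNexp⟩ | ⟨hNperf, -⟩
    · exfalso
      haveI := Fact.mk hp
      have hNp : IsPGroup p N := fun a => ⟨1, Subtype.ext (by simpa using hNexp a a.2)⟩
      obtain ⟨n, hn⟩ := IsPGroup.iff_card.1 hNp
      rcases hp.eq_two_or_odd' with rfl | hpodd
      · obtain ⟨h2, h4⟩ := hne N hNn ⟨⟨⟨fun a b => Subtype.ext (hNab a a.2 b b.2)⟩⟩, hNexp⟩
        have hle : Nat.card N ≤ 4 := by
          obtain ⟨Q, hQ⟩ := hNp.exists_le_sylow
          have h := Subgroup.card_le_of_le hQ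
          rw [Nat.card_congr (Sylow.equiv Q P).toEquiv, hP4] at h
          exact h
        rw [hn] at h2 h4 hle
        rcases (show n = 0 ∨ n = 1 ∨ n = 2 ∨ 3 ≤ n by omega) with rfl | rfl | rfl | h3
        · exact hN1 (eq_bot_of_card_eq _ (by rw [hn, pow_zero]))
        · exact h2 rfl
        · exact h4 rfl
        · have : 2 ^ 3 ≤ 2 ^ n := Nat.pow_le_pow_right two_pos h3
          omega
      · exact hN1 (hodd1 N hNn (by rw [hn]; exact hpodd.pow))
    · -- the perfect minimal normal subgroup
      have hev : 2 ∣ Nat.card N := by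
        by_contra h
        exact hN1 (hodd1 N hNn (Nat.odd_iff.2 (Nat.two_dvd_ne_zero.1 h)))
      obtain ⟨u, hu⟩ := exists_prime_orderOf_dvd_card' 2 hev
      have hu' : orderOf (u : G) = 2 := by rwa [Subgroup.orderOf_coe]
      have hxN : x ∈ N := by
        obtain ⟨Q, hQ⟩ := (IsPGroup.of_card (n := 1) (G := zpowers (u : G))
          (by rw [Nat.card_zpowers, hu', pow_one])).exists_le_sylow
        obtain ⟨k, rfl⟩ := MulAction.exists_smul_eq G P Q
        have h1 := hQ (mem_zpowers (u : G))
        rw [Sylow.coe_subgroup_smul, mem_pointwise_smul_iff_inv_smul_mem, MulAut.smul_def,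
          MulAut.inv_def, MulAut.conj_symm_apply] at h1
        have h2 : k⁻¹ * (u : G) * k ∈ N := by simpa using hNn.conj_mem _ u.2 k⁻¹
        have hu1 : k⁻¹ * (u : G) * k ≠ 1 := fun h => by
          have : (u : G) = 1 := by
            calc (u : G) = k * (k⁻¹ * u * k) * k⁻¹ := by group
              _ = 1 := by rw [h]; group
          rw [this, orderOf_one] at hu'
          omega
        obtain ⟨n, -, hn⟩ := hfus _ h1 hu1
        rw [← hn] at h2
        have := hNn.conj_mem _ h2 n⁻¹
        simpa [mul_assoc] using this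
      have hPN : (P : Subgroup G) ≤ N := by
        intro w hw
        by_cases hw1 : w = 1
        · rw [hw1]; exact one_mem _
        obtain ⟨n, -, rfl⟩ := hfus w hw hw1
        exact hNn.conj_mem x hxN n
      let V : Sylow 2 N := P.subtype hPN
      set x' : N := ⟨x, hxN⟩ with hx'
      have hVc : (V : Subgroup N) = centralizer ({x'} : Set N) := by
        rw [Sylow.coe_subtype]
        ext n
        rw [mem_subgroupOf, hPC, hC, mem_centralizer_singleton_iff, mem_centralizer_singleton_iff,
          Subtype.ext_iff]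
        rfl
      have hV4 : Nat.card (V : Subgroup N) = 4 := by
        rw [Sylow.coe_subtype, Nat.card_congr (subgroupOfEquivOfLe hPN).toEquiv, hP4]
      have hVsq : ∀ w ∈ (V : Subgroup N), w ^ 2 = 1 := by
        intro w hw
        rw [Sylow.coe_subtype, mem_subgroupOf] at hw
        exact Subtype.ext (by simpa using hsq _ hw)
      have hx'1 : x' ≠ 1 := fun h => hx1 (congrArg Subtype.val h)
      have hVbot : (V : Subgroup N) ≠ ⊥ := fun h => by rw [h, card_bot] at hV4; omega
      have hnotN := not_normalizer_le_centralizer hNperf V hVbot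
      obtain ⟨hfusN, hN12'⟩ := fusion_data V hx'1 hVc hV4 hVsq hnotN
      have hVcomm : ∀ a ∈ (V : Subgroup N), ∀ b ∈ (V : Subgroup N), a * b = b * a := by
        intro a ha b hb
        have e : ∀ w ∈ (V : Subgroup N), w⁻¹ = w := fun w hw =>
          inv_eq_of_mul_eq_one_right (by rw [← sq, hVsq w hw])
        have := e _ (mul_mem ha hb)
        rwa [mul_inv_rev, e a ha, e b hb, eq_comm] at this
      have F : CfsgLib.InvChar.FourData (V : Subgroup N) ⊥ (centralizer ({x'} : Set N)) x' :=
        { centralizer_eq := rfl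
          card_four := hV4
          sq_one := fun w hw => by rw [← sq]; exact hVsq w hw
          mem_four := hVc ▸ mem_centralizer_singleton_iff.2 rfl
          ne_one := hx'1
          commutes := fun c hc w hw => hVcomm c (hVc ▸ hc) w hw
          complement_le := bot_le
          four_le := hVc.le
          odd_complement := by rw [card_bot]; exact odd_one
          decomp := fun c hc => ⟨c, hVc ▸ hc, 1, one_mem _, (mul_one c).symm⟩
          fusion := fun w hw hw1 => by
            obtain ⟨n, -, hn⟩ := hfusN w hw hw1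
            exact isConj_iff.2 ⟨n, hn⟩
          odd_index := Nat.odd_iff.2 (Nat.two_dvd_ne_zero.1 V.not_dvd_index) }
      letI : Fintype N := Fintype.ofFinite N
      have h15 := F.index_le hNperf
      have hcardN : Nat.card N = 4 * (centralizer ({x'} : Set N)).index := by
        rw [← hV4, hVc, Subgroup.card_mul_index]
      set M := normalizer ((V : Subgroup N) : Set N) with hM
      have hM5 : M.index = 5 := by
        have h1 := M.card_mul_index
        rw [hN12', hcardN] at h1
        have h2 : M.index ≤ 5 := by omega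
        by_contra h5
        have htop := eq_top_of_index_le_four hNperf M (by omega)
        rw [htop, card_top] at hN12'
        have h3 : (V : Subgroup N).index = 3 := by
          have := (V : Subgroup N).card_mul_index
          rw [hV4, hN12'] at this
          omega
        have h4 := eq_top_of_index_le_four hNperf (V : Subgroup N) (by omega)
        rw [h4, index_top] at h3
        omega
      have hN60 : Nat.card N = 60 := by
        rw [← M.card_mul_index, hN12', hM5]
      obtain ⟨Q⟩ : Nonempty (Sylow 5 N) := inferInstance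
      have hQ5 := CfsgLib.Dickson.OrderSixty.card_eq_five hN60 Q
      obtain ⟨e⟩ := CfsgLib.Dickson.OrderSixty.nonempty_mulEquiv hN60 Q fun hQn => by
        haveI := hQn
        obtain ⟨c, hc⟩ := exists_prime_orderOf_dvd_card' 5 (by rw [hQ5] : 5 ∣ Nat.card (Q : Subgroup N))
        have hc' : orderOf (c : N) = 5 := by rwa [Subgroup.orderOf_coe]
        haveI := Fintype.ofFinite (Q : Subgroup N)
        let S : Finset N :=
          ((Finset.univ : Finset (Q : Subgroup N)).image Subtype.val).erase 1
        have hS : S.card ≤ 4 := by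
          have h1 : ((Finset.univ : Finset (Q : Subgroup N)).image Subtype.val).card = 5 := by
            rw [Finset.card_image_of_injective _ Subtype.val_injective, Finset.card_univ,
              ← Nat.card_eq_fintype_card, hQ5]
          have h2 : (1 : N) ∈ (Finset.univ : Finset (Q : Subgroup N)).image Subtype.val :=
            Finset.mem_image.2 ⟨1, Finset.mem_univ _, rfl⟩
          simp only [S]
          rw [Finset.card_erase_of_mem h2, h1]
        have hb := card_le_mul_centralizer (⊤ : Subgroup N) (c : N) S fun m _ => by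
          refine Finset.mem_erase.2 ⟨fun h => ?_, Finset.mem_image.2
            ⟨⟨_, hQn.conj_mem c c.2 m⟩, Finset.mem_univ _, rfl⟩⟩
          rw [conj_eq_one_iff.1 h, orderOf_one] at hc'
          omega
        rw [card_top] at hb
        have h2 := (centralizer ({(c : N)} : Set N)).card_mul_index
        have h3 : (centralizer ({(c : N)} : Set N)).index ≤ 4 := by
          by_contra h3
          have := Nat.mul_le_mul_left (Nat.card (centralizer ({(c : N)} : Set N)))
            (show 5 ≤ (centralizer ({(c : N)} : Set N)).index by omega)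
          have := Nat.mul_le_mul_left (Nat.card (centralizer ({(c : N)} : Set N))) hS
          have : 0 < Nat.card (centralizer ({(c : N)} : Set N)) := Nat.card_pos
          omega
        have htop := eq_top_of_index_le_four hNperf _ h3
        have hxc : (c : N) ∈ centralizer ({x'} : Set N) :=
          mem_centralizer_singleton_iff.2
            (mem_centralizer_singleton_iff.1 (htop.symm ▸ mem_top x')).symm
        rw [← hVc] at hxc
        have h4 := orderOf_dvd_of_pow_eq_one (hVsq _ hxc)
        rw [hc'] at h4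
        omega
      -- Frattini argument
      have hNtop : N = ⊤ := by
        have hfr := Sylow.normalizer_sup_eq_top' P hPN
        have hle : normalizer ((P : Subgroup G) : Set G) ≤ N := by
          have hmap : M.map N.subtype ≤ normalizer ((P : Subgroup G) : Set G) := by
            rintro _ ⟨m, hm, rfl⟩
            refine mem_normalizer_iff.2 fun w => ?_
            constructor
            · intro hw
              exact (mem_normalizer_iff.1 hm ⟨w, hPN hw⟩).1 hw
            · intro hw
              have hwN : w ∈ N := by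
                have := hNn.conj_mem _ (hPN hw) (m : G)⁻¹
                simpa [mul_assoc] using this
              exact (mem_normalizer_iff.1 hm ⟨w, hwN⟩).2 hw
          rw [← eq_of_le_of_card_ge hmap (by
            rw [card_map_of_injective N.subtype_injective, hN12', hN12])]
          exact map_subtype_le _
        rw [← hfr]
        exact (sup_eq_right.2 hle).symm
      subst hNtop
      exact ⟨Subgroup.topEquiv.symm.trans e⟩

end CfsgLib.CentFour
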